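/-
A maximal frame exhausts the class.

Main results: `Polar.exists_onto`.
-/
import Cfsg.Agent.Lib.FischerPolar.Base.Line
import Cfsg.Agent.Lib.FischerPolar.Pattern.Induction
import Cfsg.Agent.Lib.FischerPolar.ExtendEmb

set_option autoImplicit false

namespace Cfsg.Agent.FischerPolar

open Cfsg Cfsg.Agent.ThreeTrans Cfsg.Agent.ThreeTransRank Cfsg.Agent.ThreeTransSU Cfsg.Agent.U62Cover

variable {G : Type*} [Group G] [Finite G] {D : Set G} {m : ℕ} {ψ : (Fin m → K) → G}

theorem Emb.dim_le (hD : IsThreeTranspositionSet D) (E : Emb D m ψ) : m ≤ D.ncard + 1 := by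
  obtain ⟨n, rfl⟩ : ∃ n, m = n + 1 := ⟨m - 1, by have := E.four; omega⟩
  let e : Fin (n + 1) → (Fin (n + 1) → K) := fun i => Pi.single i 1
  have he : ∀ i j, hf (e i) (e j) = if i = j then 1 else 0 := by
    intro i j
    change ∑ l, (Pi.single i (1 : K) : Fin (n + 1) → K) l * (Pi.single j (1 : K) : Fin (n + 1) → K) l ^ 2 = _
    rw [Finset.sum_eq_single i (fun l _ hl => by simp [hl]) (fun hn => absurd (Finset.mem_univ _) hn)]
    by_cases h : i = j <;> simp [h]
  let f : Fin n → (Fin (n + 1) → K) := fun i => e 0 + e i.succ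
  have hi : ∀ i, Iso (f i) := fun i => (move (show Unit1 (e 0) by rw [Unit1, he, if_pos rfl])
    (show Unit1 (e i.succ) by rw [Unit1, he, if_pos rfl])
    (by rw [he, if_neg (Fin.succ_ne_zero i).symm])).1
  have hinj : Set.InjOn (fun i => ψ (f i)) Set.univ := by
    intro i _ j _ hij
    by_contra hne
    refine E.ne_of_sep hD (hi i) (hi j) (fun c hc => ?_) hij
    have := congrFun hc j.succ
    simp [f, e, Ne.symm hne] at this
  have := Set.ncard_le_ncard_of_injOn (fun i => ψ (f i)) (fun i _ => E.mem (hi i)) hinj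
    (Set.toFinite D)
  rw [Set.ncard_univ, Nat.card_fin] at this
  omega

namespace Pat

omit [Finite G] in
/-- A member commuting with the whole frame does not change patterns. -/
theorem conj_fix {e a : G} {v : Fin m → K} (h : Pat ψ e v) (ha : ∀ b, Iso b → Commute a (ψ b)) :
    Pat ψ (a * e * a⁻¹) v := fun b hb => by
  rw [← h b hb, ← cmap_iff a (x := e), conj_eq_of_commute (ha b hb)]

end Pat

variable (P : Polar D 5)
include P

/-- A member commuting with the whole frame, if some member has only vectors of norm zero as pattern. -/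
theorem Emb.exists_null (E : Emb D m ψ) {g : G} (hg : g ∈ D) {v : Fin m → K} (hv : Iso v)
    (hpat : Pat ψ g v) (hne : g ≠ ψ v) :
    ∃ h ∈ FischerPolar.line D g (ψ v), h ≠ ψ v ∧ ∀ b, Iso b → Commute h (ψ b) := by
  have hD := P.set
  have hc : Commute g (ψ v) := (hpat v hv).2 hv.2
  obtain ⟨z, hz, -⟩ := exists_partner cardK (b := (Fin.elim0 : Fin 0 → Fin m → K))
    linearIndependent_empty_type hv (fun i => i.elim0) (by
      rw [Set.range_eq_empty, Submodule.span_empty, Submodule.mem_bot]; exact hv.1)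
  have hzv : hf z v ≠ 0 := fun e => by
    have := z_symm e; rw [hz.2] at this; exact one_ne_zero this
  have iz : Iso z := ⟨fun e => hzv (by rw [e, zl]), hz.1⟩
  obtain ⟨h, hh, hzh⟩ := P.hit hg (E.mem hv) hne hc (E.mem iz)
  have hnv : ¬ Commute (ψ z) (ψ v) := fun e => hzv (z_symm ((E.comm_iff hD iz hv).1 e))
  have hhv : h ≠ ψ v := fun e => hnv (e ▸ hzh)
  refine ⟨h, hh, hhv, fun b hb => ?_⟩
  obtain ⟨w, hw⟩ := E.exists_pat P hh.1
  obtain ⟨c, hc'⟩ := eq_smul_of_iso_perp E.four (μ := v) (x := w) fun x hx hxv =>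
    (hw x hx).1 (hh.2 (ψ x) (E.mem hx) ((hpat x hx).2 hxv).symm (E.comm hx hv (z_symm hxv))).symm
  have h0 := (hw z iz).1 hzh.symm
  rw [hc', sr, mul_eq_zero, or_iff_left hzv] at h0
  rw [hw b hb, hc', k_sq_eq_zero c h0, zero_smul, zr]

/-- Without members of unit pattern, no member commutes with the whole frame. -/
theorem Emb.no_null (E : Emb D m ψ) (hno : ∀ e ∈ D, ∀ v, Pat ψ e v → ¬ Unit1 v) {e : G}
    (he : e ∈ D) (hall : ∀ b, Iso b → Commute e (ψ b)) : False := by
  classical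
  have hD := P.set
  -- a frame pair
  obtain ⟨o, ho⟩ := Cfsg.Agent.Unitary.exists_orthonormalBasis (q := 2) (card_sq cardK)
    (herm cardK) (Cfsg.Agent.Unitary.hermForm_nondeg (card_sq cardK) m)
  have hm : 2 ≤ Module.finrank K (Fin m → K) := by
    rw [Module.finrank_fin_fun]; have := E.four; omega
  obtain ⟨ip, -, -⟩ := move (ho.1 (Fin.castLE hm 0)) (ho.1 (Fin.castLE hm 1))
    (ho.2 fun e => by simpa using congrArg Fin.val e)
  set pv := o (Fin.castLE hm 0) + o (Fin.castLE hm 1)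
  obtain ⟨qv, hq, -⟩ := exists_partner cardK (b := (Fin.elim0 : Fin 0 → Fin m → K))
    linearIndependent_empty_type ip (fun i => i.elim0) (by
      rw [Set.range_eq_empty, Submodule.span_empty, Submodule.mem_bot]; exact ip.1)
  have hpq1 : hf pv qv = 1 := hq.2
  have iq : Iso qv := ⟨fun e => by rw [e, zr] at hpq1; exact zero_ne_one hpq1, hq.1⟩
  set rv := rfl2 qv pv with hrv
  have ir : Iso rv := rfl2_iso iq.2 ip
  have erv : rv = pv + qv := by rw [hrv, rfl2, hpq1, one_smul]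
  set p := ψ pv
  set q := ψ qv
  set r := ψ rv
  -- two non-commuting members commuting with the frame
  have h2 : ∃ a ∈ D, ∃ b ∈ D, a ≠ b := ⟨p, E.mem ip, q, E.mem iq, fun h =>
    one_ne_zero (α := K) (hpq1.symm.trans ((E.comm_iff hD iq ip).1 (by
      rw [show ψ pv = ψ qv from h])))⟩
  obtain ⟨g, hg, hge⟩ := exists_not_commute P.cls h2 he
  obtain ⟨u', hu', hall', heu'⟩ : ∃ u' ∈ D, (∀ b, Iso b → Commute u' (ψ b)) ∧ ¬ Commute e u' := by
    obtain ⟨v, hv⟩ := E.exists_pat P hg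
    by_cases hv0 : v = 0
    · exact ⟨g, hg, fun b hb => (hv b hb).2 (by rw [hv0, zr]), hge⟩
    have iv : Iso v := ⟨hv0, (self_cases v).resolve_right (hno g hg v hv)⟩
    have hne : g ≠ ψ v := fun e' => hge (e' ▸ hall v iv)
    obtain ⟨h, hh, hhv, hh0⟩ := E.exists_null P hg iv hv hne
    refine ⟨h, hh.1, hh0, fun hc => hge ?_⟩
    exact P.two hg (E.mem iv) hne ((hv v iv).2 iv.2) hh (right_mem (E.mem iv)) hhv he hc (hall v iv)
      (left_mem hg)
  set u'' := e * u' * e with hu''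
  have hu''D : u'' ∈ D := conj_mem hD P.conj he hu'
  have hall'' : ∀ b, Iso b → Commute u'' (ψ b) := fun b hb =>
    ((hall b hb).mul_left (hall' b hb)).mul_left (hall b hb)
  have heu'' : ¬ Commute e u'' := fun hc => heu' <| by
    have h1 := cmap e hc
    rwa [conj_eq_of_commute (Commute.refl e), hu'', inv_eq hD he,
      show e * (e * u' * e) * e = u' by
        simp only [mul_assoc, mul_self_cancel hD he, mul_self hD he, mul_one]] at h1
  have hpr : ¬ Commute p r := fun hc => one_ne_zero (α := K) (by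
    have := (E.comm_iff hD ir ip).1 hc.symm
    rwa [erv, hr, ip.2, hpq1, zero_add] at this)
  have hpne : p ≠ e := fun h => by
    have : Commute p q := h ▸ hall qv iq
    exact one_ne_zero (α := K) (hpq1.symm.trans ((E.comm_iff hD iq ip).1 this.symm))
  obtain ⟨z₁, m₁, hz₁⟩ := Set.exists_mem_notMem_of_ncard_lt_ncard (s := ({p, e} : Set G))
    (t := FischerPolar.line D p e) (by
      rw [P.card (E.mem ip) he hpne (hall pv ip).symm, Set.ncard_pair hpne]; omega)
  obtain ⟨z₂, m₂, hz₂⟩ := Set.exists_mem_notMem_of_ncard_lt_ncard (s := ({p, e, z₁} : Set G))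
    (t := FischerPolar.line D p e) (by
      rw [P.card (E.mem ip) he hpne (hall pv ip).symm]
      calc ({p, e, z₁} : Set G).ncard ≤ ({e, z₁} : Set G).ncard + 1 := Set.ncard_insert_le _ _
        _ ≤ ({z₁} : Set G).ncard + 1 + 1 := by gcongr; exact Set.ncard_insert_le _ _
        _ < 5 := by rw [Set.ncard_singleton]; norm_num)
  simp only [Set.mem_insert_iff, Set.mem_singleton_iff, not_or] at hz₁ hz₂
  have C : Config D p r e u'' z₁ z₂ := ⟨E.mem ip, E.mem ir, he, hu''D, hpr, heu'',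
    (hall pv ip).symm, (hall'' pv ip).symm, (hall rv ir).symm, (hall'' rv ir).symm, m₁, m₂, hz₁.1,
    hz₁.2, hz₂.1, hz₂.2.1, Ne.symm hz₂.2.2⟩
  have hpat : ∀ z ∈ FischerPolar.line D p e, z ≠ e → Pat ψ z pv := by
    intro z hz hze
    obtain ⟨x, hx⟩ := E.exists_pat P hz.1
    obtain ⟨c, rfl⟩ := eq_smul_of_iso_perp E.four (μ := pv) (x := x) fun b hb hbp =>
      (hx b hb).1 (hz.2 (ψ b) (E.mem hb) (E.comm hb ip (z_symm hbp)) (hall b hb).symm).symm
    rcases eq_or_ne c 0 with rfl | hc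
    · exact absurd ((hx rv ir).2 (by rw [zero_smul, zr])).symm (C.q_off P hz hze)
    · have := hx.smul (inv_ne_zero hc)
      rwa [smul_smul, inv_mul_cancel₀ hc, one_smul] at this
  have p1 := hpat z₁ m₁ hz₁.2
  have p2 := hpat z₂ m₂ hz₂.2.1
  set w := u'' * (z₁ * r * z₁) * u'' with hw
  have hwD : w ∈ D := conj_mem hD P.conj hu''D (conj_mem hD P.conj m₁.1 (E.mem ir))
  have hwz : ¬ Commute w z₂ := C.last_rel P
  have hz1r : ¬ Commute r z₁ := C.q_off P m₁ hz₁.2
  have ebr : z₁ * r * z₁ = r * z₁ * r := (braid hD (E.mem ir) m₁.1 hz1r).symm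
  have pw : Pat ψ w qv := by
    have h1 := (p1.conj hD E ir).conj_fix hall''
    rw [inv_eq hD hu''D, ← ebr] at h1
    rwa [show rfl2 rv pv = qv by
      rw [rfl2, erv, hr, ip.2, hpq1, zero_add, one_smul, ← add_assoc, v_add_self, zero_add]] at h1
  set k := w * z₂ * w with hk
  have hkD : k ∈ D := conj_mem hD P.conj hwD m₂.1
  obtain ⟨x, hx⟩ := E.exists_pat P hkD
  have hspan := mem_span_pair_of_iso_perp (x := x) E.four ip iq hpq1 fun b hb h1 h2 =>
    (hx b hb).1 ((((pw b hb).2 h2).mul_left ((p2 b hb).2 h1)).mul_left ((pw b hb).2 h2))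
  have hk' : k = z₂ * w * z₂ := braid hD hwD m₂.1 hwz
  have kp : ¬ Commute k p := fun hc => by
    have h1 : Commute (z₂ * k * z₂⁻¹) (z₂ * p * z₂⁻¹) := cmap z₂ hc
    rw [hk', conj_eq_of_commute (line_comm C.hp he C.pu m₂).1.symm, inv_eq hD m₂.1,
      show z₂ * (z₂ * w * z₂) * z₂ = w by
        simp only [mul_assoc, mul_self_cancel hD m₂.1, mul_self hD m₂.1, mul_one]] at h1
    exact one_ne_zero (α := K) (hpq1.symm.trans ((pw pv ip).1 h1))
  have kq : ¬ Commute k q := fun hc => by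
    have h1 := cmap w hc
    rw [conj_eq_of_commute ((pw qv iq).2 iq.2), hk, inv_eq hD hwD,
      show w * (w * z₂ * w) * w = z₂ by
        simp only [mul_assoc, mul_self_cancel hD hwD, mul_self hD hwD, mul_one]] at h1
    exact one_ne_zero (α := K) (one_symm hpq1 |>.symm.trans ((p2 qv iq).1 h1))
  have kr : ¬ Commute k r := fun hc => by
    have h1 := cmap w hc
    rw [hk, inv_eq hD hwD, show w * (w * z₂ * w) * w = z₂ by
        simp only [mul_assoc, mul_self_cancel hD hwD, mul_self hD hwD, mul_one]] at h1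
    have e1 : w * r * w = u'' * z₁ * u'' := by
      have hur : Commute u'' r := hall'' rv ir
      have e' : z₁ * r * z₁ * r * (z₁ * r * z₁) = z₁ := by
        calc z₁ * r * z₁ * r * (z₁ * r * z₁) = z₁ * (r * z₁ * r) * (z₁ * r * z₁) := by
              simp only [mul_assoc]
          _ = z₁ * (z₁ * r * z₁) * (z₁ * r * z₁) := by rw [← ebr]
          _ = z₁ := by
            simp only [mul_assoc, mul_self_cancel hD m₁.1,
              mul_self_cancel hD (show r ∈ D from E.mem ir)]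
      calc w * r * w = u'' * (z₁ * r * z₁) * (u'' * r * u'') * (z₁ * r * z₁) * u'' := by
            rw [hw]; simp only [mul_assoc]
        _ = u'' * (z₁ * r * z₁ * r * (z₁ * r * z₁)) * u'' := by
            rw [hur.eq, mul_assoc r, mul_self hD hu''D, mul_one]; simp only [mul_assoc]
        _ = u'' * z₁ * u'' := by rw [e']
    have e2 : u'' * z₁ * u'' = z₁ * u'' * z₁ :=
      braid hD hu''D m₁.1 fun h => C.u'_off P m₁ hz₁.1 h
    rw [e1, e2] at h1
    have h3 := cmap z₁ h1
    rw [conj_eq_of_commute (line_clique C.hp he C.pu m₁ m₂), inv_eq hD m₁.1,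
      show z₁ * (z₁ * u'' * z₁) * z₁ = u'' by
        simp only [mul_assoc, mul_self_cancel hD m₁.1, mul_self hD m₁.1, mul_one]] at h3
    exact C.u'_off P m₂ hz₂.1 h3.symm
  have fp := fun h0 => kp ((hx pv ip).2 h0)
  have fq := fun h0 => kq ((hx qv iq).2 h0)
  have fr := fun h0 => kr ((hx rv ir).2 h0)
  have e0 : hf pv x = hf x pv ^ 2 := symm' x pv
  have e1 : hf qv x = hf x qv ^ 2 := symm' x qv
  have e2 : hf rv x = hf x pv ^ 2 + hf x qv ^ 2 := by rw [erv, hl, e0, e1]
  rw [e0] at fp; rw [e1] at fq; rw [e2] at fr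
  refine hno k hkD x hx ?_
  have key : ∀ a b : K, (a ^ 2 = 0 → False) → (b ^ 2 = 0 → False) → (a ^ 2 + b ^ 2 = 0 → False) →
      b * a ^ 2 + a * b ^ 2 = 1 := by
    decide +kernel
  show hf x x = 1
  conv_lhs => arg 1; rw [hspan]
  rw [hl, sl, sl, e0, e1]
  exact key _ _ fp fq fr

omit [Finite G] in
theorem Emb.point_inj (E : Emb D m ψ) {x y : Fin m → K} (hx : Iso x) (hy : Iso y)
    (h : ψ x = ψ y) : ∃ c : K, y = c • x := by
  by_contra hn
  push Not at hn
  exact E.ne_of_sep P.set hx hy hn h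

/-- A maximal frame exhausts the class. -/
theorem Polar.exists_onto (hadj : ∀ x ∈ D, (adj D x).Nonempty) :
    ∃ (m : ℕ) (ψ : (Fin m → K) → G), Emb D m ψ ∧ ∀ e ∈ D, ∃ v, Iso v ∧ ψ v = e := by
  classical
  obtain ⟨ψ₄, E₄⟩ := P.exists_emb_four hadj
  have h4 : 4 ≤ D.ncard + 1 := E₄.dim_le P.set
  let Q : ℕ → Prop := fun m => ∃ ψ : (Fin m → K) → G, Emb D m ψ
  obtain ⟨M, φ, E, hmax⟩ : ∃ (M : ℕ) (φ : (Fin M → K) → G), Emb D M φ ∧
      ∀ χ : (Fin (M + 1) → K) → G, ¬ Emb D (M + 1) χ := by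
    obtain ⟨φ, E⟩ : Q (Nat.findGreatest Q (D.ncard + 1)) := Nat.findGreatest_spec h4 ⟨ψ₄, E₄⟩
    refine ⟨_, φ, E, fun χ E' => ?_⟩
    have := Nat.le_findGreatest (P := Q) (E'.dim_le P.set) ⟨_, E'⟩
    omega
  have hno : ∀ e ∈ D, ∀ v, Pat φ e v → ¬ Unit1 v := fun e he v hv hu =>
    hmax _ (Step.exists_extension ⟨P, E, he, hu, hv⟩)
  refine ⟨M, φ, E, fun g hg => ?_⟩
  obtain ⟨v, hv⟩ := E.exists_pat P hg
  by_cases hv0 : v = 0
  · exact (E.no_null P hno hg fun b hb => (hv b hb).2 (by rw [hv0, zr])).elim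
  have iv : Iso v := ⟨hv0, (self_cases v).resolve_right (hno g hg v hv)⟩
  by_contra hcon
  push Not at hcon
  obtain ⟨h, hh, -, hh0⟩ := E.exists_null P hg iv hv (Ne.symm (hcon v iv))
  exact E.no_null P hno hh.1 hh0

end Cfsg.Agent.FischerPolar
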