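/-
A class whose lines have five points and meet every perpendicular is that of transvections of PSU(n,2).

Main results: `Emb.exists_equiv`, `Polar.exists_iso_psu`.
-/
import Cfsg.Agent.Lib.FischerPolar.Unitary.Onto
import Cfsg.Agent.Lib.ThreeTransSU.PSUPoints
import Cfsg.Agent.S0283

set_option autoImplicit false

namespace Cfsg.Agent.FischerPolar

open Cfsg Cfsg.Agent.ThreeTrans Cfsg.Agent.ThreeTransRank Cfsg.Agent.ThreeTransSU Cfsg.Agent.U62Cover
open scoped Matrix

variable {G : Type*} [Group G] [Finite G] {D : Set G} {m : ℕ} {ψ : (Fin m → K) → G}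

/-- The images of the transvections. -/
def transvections (n : ℕ) : Set (Cfsg.PSU n K 2) :=
  {x | ∃ v, Iso v ∧ x = toPSU n K (tv cardK v)}

theorem Emb.exists_equiv (P : Polar D 5) (E : Emb D m ψ)
    (honto : ∀ e ∈ D, ∃ v, Iso v ∧ ψ v = e) :
    ∃ e : G ≃* Cfsg.PSU m K 2, ∀ v, Iso v → e (ψ v) = toPSU m K (tv cardK v) := by
  classical
  have hD := P.set
  have h4 := E.four
  have hF : Fintype.card K = 4 := cardK
  choose vec hiso hvec using fun x : D => honto x x.2
  have hact : ∀ (g : Cfsg.SU m K 2) (v : Fin m → K) (hv : Iso v),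
      ψ (act g (vec ⟨ψ v, E.mem hv⟩)) = ψ (act g v) := by
    intro g v hv
    obtain ⟨c, hc⟩ := E.point_inj P hv (hiso _) (hvec ⟨ψ v, E.mem hv⟩).symm
    have hc0 : c ≠ 0 := fun h0 => (hiso ⟨ψ v, E.mem hv⟩).1 (by rw [hc, h0, zero_smul])
    rw [hc, act_smul, E.smul (hv.act g) hc0]
  let f : Cfsg.SU m K 2 → D → D := fun g x => ⟨ψ (act g (vec x)), E.mem ((hiso x).act g)⟩
  have hfψ : ∀ (g : Cfsg.SU m K 2) (v : Fin m → K) (hv : Iso v),
      f g ⟨ψ v, E.mem hv⟩ = ⟨ψ (act g v), E.mem (hv.act g)⟩ := fun g v hv =>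
    Subtype.ext (hact g v hv)
  have hf1 : ∀ x, f 1 x = x := fun x => Subtype.ext (by
    show ψ (act 1 (vec x)) = x
    rw [act_one]; exact hvec x)
  have hfmul : ∀ g h x, f (g * h) x = f g (f h x) := fun g h x => by
    rw [show f h x = ⟨ψ (act h (vec x)), E.mem ((hiso x).act h)⟩ from rfl, hfψ g _ ((hiso x).act h)]
    exact Subtype.ext (by show ψ (act (g * h) (vec x)) = _; rw [act_mul])
  let S : Cfsg.SU m K 2 →* Equiv.Perm D :=
    { toFun := fun g => ⟨f g, f g⁻¹, fun x => by rw [← hfmul, inv_mul_cancel, hf1],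
        fun x => by rw [← hfmul, mul_inv_cancel, hf1]⟩
      map_one' := Equiv.ext hf1
      map_mul' := fun g h => Equiv.ext (hfmul g h) }
  have hcen : Subgroup.center (Cfsg.SU m K 2) ≤ S.ker := by
    intro g hg
    obtain ⟨z, hz, -, hg'⟩ := Cfsg.Agent.Unitary.center_SU_scalar
      (Cfsg.Agent.U62Cover.card_sq hF) (by omega) hg
    have hz0 : z ≠ 0 := fun e => by rw [e, zero_pow (by omega)] at hz; exact zero_ne_one hz
    rw [MonoidHom.mem_ker]
    refine Equiv.ext fun x => Subtype.ext ?_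
    show ψ (act g (vec x)) = x
    have : act g (vec x) = z • vec x := by
      show ((g : Matrix.SpecialLinearGroup (Fin m) K) : Matrix (Fin m) (Fin m) K) *ᵥ vec x = _
      rw [hg']
      funext i
      simp [Matrix.scalar_apply, Matrix.mulVec_diagonal]
    rw [this, E.smul (hiso x) hz0]; exact hvec x
  let s : Cfsg.PSU m K 2 →* Equiv.Perm D := QuotientGroup.lift _ S hcen
  have hsmk : ∀ g, s (toPSU m K g) = S g := fun g => rfl
  have hconj := P.conj
  let c : G →* Equiv.Perm D :=
    { toFun := fun a => ⟨fun x => ⟨a * x * a⁻¹, hconj a x x.2⟩,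
        fun x => ⟨a⁻¹ * x * a⁻¹⁻¹, hconj a⁻¹ x x.2⟩,
        fun x => Subtype.ext (show a⁻¹ * (a * x * a⁻¹) * a⁻¹⁻¹ = x by group),
        fun x => Subtype.ext (show a * (a⁻¹ * x * a⁻¹⁻¹) * a⁻¹ = x by group)⟩
      map_one' := Equiv.ext fun x => Subtype.ext (by simp)
      map_mul' := fun a b => Equiv.ext fun x => Subtype.ext
        (show a * b * x * (a * b)⁻¹ = a * (b * x * b⁻¹) * a⁻¹ by group) }
  have hct : ∀ v, Iso v → c (ψ v) = s (toPSU m K (tv hF v)) := by
    intro v hv
    rw [hsmk]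
    refine Equiv.ext fun x => Subtype.ext ?_
    show ψ v * x * (ψ v)⁻¹ = ψ (act (tv hF v) (vec x))
    rw [act_tv_eq hv.2, ← E.conj hD hv (hiso x), hvec x, E.inv hD hv]
  have hci : Function.Injective c := by
    rw [← MonoidHom.ker_eq_bot_iff, eq_bot_iff]
    intro a ha
    rw [← center_eq_bot_of_trivialRadical P.rad, Subgroup.mem_center_iff]
    intro b
    have hb : b ∈ Subgroup.closure D := by rw [P.cls.2.2]; exact Subgroup.mem_top b
    have hle : Subgroup.closure D ≤ Subgroup.centralizer {a} := by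
      rw [Subgroup.closure_le]
      intro d hd
      rw [SetLike.mem_coe, Subgroup.mem_centralizer_iff]
      simp only [Set.mem_singleton_iff, forall_eq]
      have h1 : a * d * a⁻¹ = d :=
        congrArg Subtype.val (Equiv.ext_iff.1 (MonoidHom.mem_ker.1 ha) ⟨d, hd⟩)
      exact mul_inv_eq_iff_eq_mul.1 h1
    exact (Subgroup.mem_centralizer_iff.1 (hle hb) a rfl).symm
  have hsimp : IsSimpleGroup (Cfsg.PSU m K 2) :=
    S0283.result (show Fintype.card K = 2 ^ 2 from cardK) m (by omega) (by omega)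
  have hrange : c.range = s.range := by
    have h1 : c.range = Subgroup.closure (c '' D) := by
      rw [← MonoidHom.map_closure, P.cls.2.2, MonoidHom.range_eq_map]
    have h2 : s.range = Subgroup.closure
        ((fun v => s (toPSU m K (tv hF v))) '' {v | Iso v}) := by
      have : s.range = S.range := by
        ext σ
        constructor
        · rintro ⟨q, rfl⟩
          obtain ⟨g, rfl⟩ := QuotientGroup.mk'_surjective _ q
          exact ⟨g, rfl⟩
        · rintro ⟨g, rfl⟩; exact ⟨toPSU m K g, rfl⟩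
      rw [this, MonoidHom.range_eq_map, ← closure_tv hF h4, MonoidHom.map_closure]
      congr 1
      ext σ
      constructor
      · rintro ⟨A, ⟨v, hv, rfl⟩, rfl⟩; exact ⟨v, hv, rfl⟩
      · rintro ⟨v, hv, rfl⟩; exact ⟨_, ⟨v, hv, rfl⟩, rfl⟩
    rw [h1, h2]
    congr 1
    ext σ
    constructor
    · rintro ⟨d, hd, rfl⟩
      obtain ⟨v, hv, rfl⟩ := honto d hd
      exact ⟨v, hv, (hct v hv).symm⟩
    · rintro ⟨v, hv, rfl⟩; exact ⟨ψ v, E.mem hv, hct v hv⟩
  have hsi : Function.Injective s := by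
    rw [← MonoidHom.ker_eq_bot_iff]
    refine (hsimp.eq_bot_or_eq_top_of_normal s.ker s.normal_ker).resolve_right fun h => ?_
    obtain ⟨d, hd, -⟩ := id P.cls.2.1
    have h1 : c d ∈ s.range := hrange ▸ ⟨d, rfl⟩
    obtain ⟨q, hq⟩ := h1
    rw [MonoidHom.mem_ker.1 (h ▸ Subgroup.mem_top q)] at hq
    exact ne_one hD hd (hci (by rw [map_one, ← hq]))
  let e : G ≃* Cfsg.PSU m K 2 :=
    (MonoidHom.ofInjective hci).trans
      ((MulEquiv.subgroupCongr hrange).trans (MonoidHom.ofInjective hsi).symm)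
  refine ⟨e, fun v hv => hsi ?_⟩
  rw [← hct v hv]
  simp [e, MonoidHom.apply_ofInjective_symm, MonoidHom.ofInjective_apply]

/-- A class whose lines have five points and meet every perpendicular is that of transvections of a
projective special unitary group over the field with four elements. -/
theorem Polar.exists_iso_psu (P : Polar D 5) (hadj : ∀ x ∈ D, (adj D x).Nonempty) :
    ∃ n, 4 ≤ n ∧ ∃ e : G ≃* Cfsg.PSU n K 2, e '' D = transvections n := by
  obtain ⟨m, ψ, E, honto⟩ := P.exists_onto hadj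
  obtain ⟨e, he⟩ := E.exists_equiv P honto
  refine ⟨m, E.four, e, ?_⟩
  ext x
  constructor
  · rintro ⟨d, hd, rfl⟩
    obtain ⟨v, hv, rfl⟩ := honto d hd
    exact ⟨v, hv, he v hv⟩
  · rintro ⟨v, hv, rfl⟩
    exact ⟨ψ v, E.mem hv, he v hv⟩

end Cfsg.Agent.FischerPolar
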